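import Groth.Agent.Lib.GeomInt5.Main
import Groth.Agent.S5641

/-!
Upper semicontinuity of the number of geometric irreducible components for proper flat morphisms with
geometrically reduced fibres.
-/

set_option autoImplicit false
set_option linter.style.haveILetI false
set_option maxHeartbeats 1000000
set_option backward.isDefEq.respectTransparency false
set_option backward.isDefEq.respectTransparency.types false

universe u

open CategoryTheory CategoryTheory.Limits AlgebraicGeometry TopologicalSpace IsLocalRing Topology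

namespace Groth.Agent.CompUSC4

theorem span_prime_of_minimal {O : Type u} [CommRing O] [IsLocalRing O] [IsNoetherianRing O] {ϖ : O}
    (hm : ϖ ∈ maximalIdeal O) (hreg : IsSMulRegular O ϖ) (hrad : (Ideal.span {ϖ}).IsRadical)
    {P : Ideal O} (hP : P ∈ minimalPrimes O)
    (hQ : ∀ Q : Ideal O, Q.IsPrime → P ≤ Q → ϖ ∈ Q → Q = maximalIdeal O) :
    Ideal.span {ϖ} = maximalIdeal O := by
  by_contra hne
  have hint : ⨅ n : ℕ, Ideal.span {ϖ} ^ n = ⊥ :=
    Ideal.iInf_pow_eq_bot_of_isLocalRing _ (ne_top_of_le_ne_top (maximalIdeal.isMaximal O).ne_top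
      ((Ideal.span_singleton_le_iff_mem _).2 hm))
  obtain ⟨hPp, x, hx⟩ : IsAssociatedPrime P O :=
    Module.associatedPrimes.minimalPrimes_annihilator_subset_associatedPrimes O O
      (by rw [Module.annihilator_eq_bot.2 inferInstance]; exact hP)
  have hx0 : x ≠ 0 := by
    rintro rfl
    exact hPp.ne_top ((Ideal.eq_top_iff_one _).2 (by rw [hx]; exact Ideal.le_radical (by simp [Submodule.mem_colon_singleton])))
  obtain ⟨i, x', hx', rfl⟩ : ∃ (i : ℕ) (b : O), ¬ ϖ ∣ b ∧ x = ϖ ^ i * b := by
    obtain ⟨n, hn⟩ : ∃ n, x ∉ Ideal.span {ϖ} ^ n := by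
      by_contra h
      push Not at h
      exact hx0 (by simpa [hint] using Ideal.mem_iInf.2 h)
    clear hx hx0
    induction n with
    | zero => simp at hn
    | succ n ih =>
      by_cases hc : x ∈ Ideal.span {ϖ} ^ n
      · rw [Ideal.span_singleton_pow, Ideal.mem_span_singleton] at hc
        obtain ⟨b, rfl⟩ := hc
        refine ⟨n, b, fun hb => hn ?_, rfl⟩
        rw [Ideal.span_singleton_pow, Ideal.mem_span_singleton, pow_succ]
        exact mul_dvd_mul_left _ hb
      · exact ih hc
  refine hx' (Ideal.mem_span_singleton.1 (hrad.radical ▸ ?_))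
  rw [Ideal.radical_eq_sInf, Ideal.mem_sInf]
  rintro Q ⟨hQle, hQp⟩
  have hϖQ : ϖ ∈ Q := hQle (Ideal.mem_span_singleton_self ϖ)
  by_cases hPQ : P ≤ Q
  · rw [hQ Q hQp hPQ hϖQ]
    by_contra hu
    have hu' : IsUnit x' := by rwa [IsLocalRing.mem_maximalIdeal, mem_nonunits_iff, not_not] at hu
    -- all elements of P are nilpotent, so every prime contains P
    apply hne
    refine le_antisymm ((Ideal.span_singleton_le_iff_mem _).2 hm) ?_
    rw [← hrad.radical, Ideal.radical_eq_sInf]
    refine le_sInf fun R hR => ?_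
    have hPR : P ≤ R := fun p hp => by
      rw [hx] at hp
      obtain ⟨n, hn⟩ := hp
      rw [Submodule.mem_colon_singleton, smul_eq_mul, Submodule.mem_bot] at hn
      have h1 : p ^ n * x' = 0 := (hreg.pow i) (show ϖ ^ i • (p ^ n * x') = ϖ ^ i • 0 by
        rw [smul_zero, smul_eq_mul, ← hn]; ring)
      exact hR.2.mem_of_pow_mem n (by rw [hu'.mul_left_eq_zero.1 h1]; exact zero_mem _)
    exact (hQ R hR.2 hPR (hR.1 (Ideal.mem_span_singleton_self ϖ))).ge
  · obtain ⟨p, hp, hpQ⟩ := SetLike.not_le_iff_exists.1 hPQ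
    rw [hx] at hp
    obtain ⟨n, hn⟩ := hp
    rw [Submodule.mem_colon_singleton, smul_eq_mul, Submodule.mem_bot] at hn
    have h1 : p ^ n * x' = 0 := (hreg.pow i) (show ϖ ^ i • (p ^ n * x') = ϖ ^ i • 0 by
      rw [smul_zero, smul_eq_mul, ← hn]; ring)
    exact (hQp.mem_or_mem (show p ^ n * x' ∈ Q by rw [h1]; exact zero_mem _)).resolve_left
      (fun h => hpQ (hQp.mem_of_pow_mem n h))

variable {B : Type u} [CommRing B] [IsDomain B] [IsDiscreteValuationRing B] {X : Scheme.{u}}
  (q : X ⟶ Spec (CommRingCat.of B))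

theorem exists_comp [IsProper q] [Flat q] [IsReduced (q.fiber (closedPoint B))] (t : X)
    (htmax : ∀ y, y ⤳ t → y = t) :
    ∃ ξ : X, q ξ = closedPoint B ∧ (∀ y, q y = closedPoint B → y ⤳ ξ → y = ξ) ∧
      ∀ s, (∀ y, y ⤳ s → y = s) → s ⤳ ξ → s = t := by
  haveI : IsLocallyNoetherian X := LocallyOfFiniteType.isLocallyNoetherian q
  haveI : CompactSpace X := QuasiCompact.compactSpace_of_compactSpace q
  obtain ⟨π, hπ⟩ := IsDiscreteValuationRing.exists_irreducible B
  let ϖ : ∀ x : X, X.presheaf.stalk x := fun x =>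
    letI : Algebra B ((Spec (CommRingCat.of B)).presheaf.stalk (q x)) := StructureSheaf.stalkAlgebra B (q x)
    q.stalkMap x (algebraMap B ((Spec (CommRingCat.of B)).presheaf.stalk (q x)) π)
  have hmem : ∀ (x : X) (w : Spec (X.presheaf.stalk x)),
      q (X.fromSpecStalk x w) = closedPoint B ↔ ϖ x ∈ w.asIdeal := by
    intro x w
    have h : q (X.fromSpecStalk x w) = (Spec.map (q.stalkMap x) ≫ (Spec (CommRingCat.of B)).fromSpecStalk (q x)) w := by
      rw [Scheme.SpecMap_stalkMap_fromSpecStalk]; rfl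
    rw [h, Spec.fromSpecStalk_eq, Scheme.Hom.comp_apply]
    refine ⟨fun he => ?_, fun he => PrimeSpectrum.ext ?_⟩
    · have h2 : π ∈ (closedPoint B).asIdeal := by
        show π ∈ maximalIdeal B
        exact (IsLocalRing.mem_maximalIdeal _).2 hπ.not_isUnit
      rw [← he] at h2
      exact h2
    · refine (((maximalIdeal.isMaximal B).eq_of_le (Ideal.IsPrime.ne_top (PrimeSpectrum.isPrime _)) ?_)).symm
      rw [hπ.maximalIdeal_eq, Ideal.span_singleton_le_iff_mem]
      exact he
  -- a point of the closed fibre minimal in the closure of t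
  obtain ⟨c, htc', hc⟩ := (isClosed_closure (s := ({t} : Set X))).exists_closed_singleton ⟨t, subset_closure rfl⟩
  have htc : t ⤳ c := specializes_iff_mem_closure.2 htc'
  have hqc : q c = closedPoint B := by
    have h1 := q.isClosedMap _ hc
    rw [Set.image_singleton] at h1
    exact ((specializes_closedPoint (q c)).mem_closed h1 rfl).symm
  obtain ⟨wt, hwt⟩ := (Scheme.range_fromSpecStalk (x := c)).symm.subset (show t ∈ {y | y ⤳ c} from htc)
  have hle : wt.asIdeal ⊔ Ideal.span {ϖ c} ≤ maximalIdeal (X.presheaf.stalk c) := by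
    refine sup_le (IsLocalRing.le_maximalIdeal wt.2.ne_top) ((Ideal.span_singleton_le_iff_mem _).2 ?_)
    exact (hmem c (closedPoint _)).1 (by rw [Scheme.fromSpecStalk_closedPoint]; exact hqc)
  obtain ⟨Q₀, hQ₀, -⟩ := Ideal.exists_minimalPrimes_le hle
  let w₀ : Spec (X.presheaf.stalk c) := ⟨Q₀, hQ₀.1.1⟩
  let ξ := X.fromSpecStalk c w₀
  have hqξ : q ξ = closedPoint B := (hmem c w₀).2 (hQ₀.1.2 (le_sup_right (a := wt.asIdeal) (Ideal.mem_span_singleton_self _)))
  have htξ : t ⤳ ξ := hwt ▸ ((PrimeSpectrum.le_iff_specializes wt w₀).1 (le_sup_left.trans hQ₀.1.2)).map (X.fromSpecStalk c).continuous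
  have hξc : ξ ⤳ c := (Scheme.range_fromSpecStalk (x := c)).subset ⟨w₀, rfl⟩
  have hbetween : ∀ y, t ⤳ y → y ⤳ ξ → q y = closedPoint B → y = ξ := by
    intro y hty hyξ hy
    obtain ⟨w, rfl⟩ := (Scheme.range_fromSpecStalk (x := c)).symm.subset (show y ∈ {y | y ⤳ c} from hyξ.trans hξc)
    have h1 : wt.asIdeal ≤ w.asIdeal := (PrimeSpectrum.le_iff_specializes wt w).2
      ((X.fromSpecStalk c).isEmbedding.isInducing.specializes_iff.1 (hwt.symm ▸ hty))
    have h2 : w.asIdeal ≤ Q₀ := (PrimeSpectrum.le_iff_specializes w w₀).2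
      ((X.fromSpecStalk c).isEmbedding.isInducing.specializes_iff.1 hyξ)
    exact congrArg _ (PrimeSpectrum.ext (le_antisymm h2 (hQ₀.2 ⟨w.2, sup_le h1 ((Ideal.span_singleton_le_iff_mem _).2 ((hmem c w).1 hy))⟩ h2)) : w = w₀)
  -- the stalk at ξ
  let O := X.presheaf.stalk ξ
  have hmapspec : ∀ v w : Spec O, X.fromSpecStalk ξ v ⤳ X.fromSpecStalk ξ w ↔ v.asIdeal ≤ w.asIdeal := fun v w =>
    (X.fromSpecStalk ξ).isEmbedding.isInducing.specializes_iff.trans (PrimeSpectrum.le_iff_specializes v w).symm
  obtain ⟨v, hv⟩ := (Scheme.range_fromSpecStalk (x := ξ)).symm.subset (show t ∈ {y | y ⤳ ξ} from htξ)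
  have hminimal : ∀ s : X, (∀ y, y ⤳ s → y = s) → ∀ w : Spec O, X.fromSpecStalk ξ w = s →
      w.asIdeal ∈ minimalPrimes O := fun s hs w hw =>
    ⟨⟨w.2, bot_le⟩, fun R hR hRw => by
      let w' : Spec O := ⟨R, hR.1⟩
      have h := hs (X.fromSpecStalk ξ w') (hw ▸ (hmapspec w' w).2 hRw)
      exact ((hmapspec w w').1 (by rw [h, hw]))⟩
  have hQ : ∀ Q : Ideal O, Q.IsPrime → v.asIdeal ≤ Q → ϖ ξ ∈ Q → Q = maximalIdeal O := fun Q hQp hvQ hϖQ => by
    let w : Spec O := ⟨Q, hQp⟩
    have h := hbetween (X.fromSpecStalk ξ w) (hv ▸ (hmapspec v w).2 hvQ)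
      ((Scheme.range_fromSpecStalk (x := ξ)).subset ⟨w, rfl⟩) ((hmem ξ w).2 hϖQ)
    replace h := h.trans (Scheme.fromSpecStalk_closedPoint (x := ξ)).symm
    exact congrArg PrimeSpectrum.asIdeal ((X.fromSpecStalk ξ).isEmbedding.injective h)
  have hmξ : ϖ ξ ∈ maximalIdeal O := (hmem ξ (closedPoint _)).1 (by rw [Scheme.fromSpecStalk_closedPoint]; exact hqξ)
  -- regularity and radicality
  let S := (Spec (CommRingCat.of B)).presheaf.stalk (q ξ)
  letI : Algebra B S := StructureSheaf.stalkAlgebra B (q ξ)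
  haveI : IsLocalization.AtPrime S (q ξ : PrimeSpectrum B).asIdeal := StructureSheaf.IsLocalization.to_stalk B (q ξ)
  have hmax : maximalIdeal S = Ideal.span {algebraMap B S π} := by
    rw [← IsLocalization.AtPrime.map_eq_maximalIdeal (q ξ : PrimeSpectrum B).asIdeal S,
      show (q ξ : PrimeSpectrum B).asIdeal = maximalIdeal B by rw [hqξ]; rfl,
      hπ.maximalIdeal_eq, Ideal.map_span, Set.image_singleton]
  have hne : algebraMap B S π ≠ 0 := fun h => hπ.ne_zero
    ((IsLocalization.injective (M := (q ξ : PrimeSpectrum B).asIdeal.primeCompl) S (Ideal.primeCompl_le_nonZeroDivisors _)) (h.trans (map_zero _).symm))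
  letI := (q.stalkMap ξ).hom.toAlgebra
  haveI : Module.Flat S O := Flat.stalkMap q ξ
  have hreg : IsSMulRegular O (ϖ ξ) :=
    IsSMulRegular.of_flat (show IsSMulRegular S (algebraMap B S π) from mul_right_injective₀ hne)
  have hmap : (maximalIdeal S).map (q.stalkMap ξ).hom = Ideal.span {ϖ ξ} := by
    rw [hmax, Ideal.map_span, Set.image_singleton]
  haveI : IsReduced (q.fiber (q ξ)) := by rw [hqξ]; infer_instance
  obtain ⟨e⟩ := FlatDepth.nonempty_fiberStalkEquiv q ξ
  haveI : _root_.IsReduced (CInt.fiberStalk q ξ) :=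
    inferInstanceAs (_root_.IsReduced ((q.fiber (q ξ)).presheaf.stalk (q.asFiber ξ)))
  haveI := isReduced_of_injective e.toRingHom e.injective
  have hrad : (Ideal.span {ϖ ξ}).IsRadical := hmap ▸ (Ideal.isRadical_iff_quotient_reduced _).2 inferInstance
  have hspan := span_prime_of_minimal hmξ hreg hrad (hminimal t htmax v hv) hQ
  haveI : IsDomain O := GeomInt5.isDomain_of_regular_prime hmξ hreg (hspan ▸ (maximalIdeal.isMaximal O).isPrime)
  refine ⟨ξ, hqξ, fun y hy hyξ => ?_, fun s hs hsξ => ?_⟩
  · obtain ⟨w, rfl⟩ := (Scheme.range_fromSpecStalk (x := ξ)).symm.subset (show y ∈ {y | y ⤳ ξ} from hyξ)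
    have h1 : maximalIdeal O ≤ w.asIdeal := hspan ▸ (Ideal.span_singleton_le_iff_mem _).2 ((hmem ξ w).1 hy)
    have h2 : w = closedPoint O := PrimeSpectrum.ext (le_antisymm (IsLocalRing.le_maximalIdeal w.2.ne_top) h1)
    rw [h2, Scheme.fromSpecStalk_closedPoint]
  · obtain ⟨w, hw⟩ := (Scheme.range_fromSpecStalk (x := ξ)).symm.subset (show s ∈ {y | y ⤳ ξ} from hsξ)
    have h1 := (hminimal s hs w hw)
    have h2 := (hminimal t htmax v hv)
    have : ∀ R ∈ minimalPrimes O, R = ⊥ := fun R hR => le_bot_iff.1 (hR.2 ⟨Ideal.isPrime_bot, bot_le⟩ bot_le)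
    rw [← hw, ← hv, show w = v from PrimeSpectrum.ext ((this _ h1).trans (this _ h2).symm)]

theorem encard_generic_le [IsProper q] [Flat q] [IsReduced (q.fiber (closedPoint B))]
    {G Z : Scheme.{u}} (p : G ⟶ X) (p₀ : Z ⟶ X) (hp : IsEmbedding p) (hp₀ : IsEmbedding p₀)
    (hr : Set.range p = q ⁻¹' {genericPoint (Spec (CommRingCat.of B))}) (hr₀ : Set.range p₀ = q ⁻¹' {closedPoint B}) :
    (irreducibleComponents G).encard ≤ (irreducibleComponents Z).encard := by
  let η := genericPoint (Spec (CommRingCat.of B))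
  have hG : ∀ g : genericPoints ↥G, ∀ y : X, y ⤳ p g.1 → y = p g.1 := by
    intro g y hy
    have h1 : q y = η := by
      have h2 := hy.map q.continuous
      rw [show q (p g.1) = η from hr.le ⟨g.1, rfl⟩] at h2
      exact (h2.antisymm (genericPoint_specializes _)).eq
    obtain ⟨g', rfl⟩ := hr.ge h1
    have hs : g' ⤳ g.1 := hp.isInducing.specializes_iff.1 hy
    have hle : (closure {g.1} : Set G) ⊆ closure {g'} :=
      closure_minimal (Set.singleton_subset_iff.2 (specializes_iff_mem_closure.1 hs)) isClosed_closure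
    have he := Set.Subset.antisymm hle (g.2.2 isIrreducible_singleton.closure hle)
    exact congrArg _ ((specializes_iff_mem_closure.2 (he.symm ▸ subset_closure rfl : g' ∈ closure {g.1})).antisymm hs).eq.symm
  choose ξ hξ hξmax huniq using fun g : genericPoints ↥G => exists_comp q (p g.1) (hG g)
  choose z hz using fun g => hr₀.ge (hξ g)
  have hzmem : ∀ g, z g ∈ genericPoints ↥Z := fun g => by
    obtain ⟨C, hC, hle, hCmax⟩ := exists_preirreducible (closure {z g}) isIrreducible_singleton.closure.isPreirreducible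
    have hCi : IsIrreducible C := ⟨⟨z g, hle (subset_closure rfl)⟩, hC⟩
    have hCc : IsClosed C := isClosed_of_mem_irreducibleComponents C ⟨hCi, fun T hT h => (hCmax T hT.isPreirreducible h).le⟩
    have hs : hCi.genericPoint ⤳ z g := (hCi.isGenericPoint_genericPoint hCc).specializes (hle (subset_closure rfl))
    have h := hξmax g (p₀ hCi.genericPoint) (hr₀.le ⟨_, rfl⟩) (hz g ▸ hs.map p₀.continuous)
    rw [← hz g] at h
    show closure {z g} ∈ irreducibleComponents ↥Z
    rw [← hp₀.injective h, (hCi.isGenericPoint_genericPoint hCc).def]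
    exact ⟨hCi, fun T hT h => (hCmax T hT.isPreirreducible h).le⟩
  let F : genericPoints ↥G → genericPoints ↥Z := fun g => ⟨z g, hzmem g⟩
  have hF : Function.Injective F := fun a b hab => by
    have he : ξ a = ξ b := by rw [← hz a, ← hz b]; exact congrArg p₀ (congrArg Subtype.val hab)
    have hspec : ∀ g, p g.1 ⤳ ξ g := fun g => by
      obtain ⟨s, hs, hsmax⟩ := EquidimAt4.exists_max_specializes (ξ g)
      exact huniq g s hsmax hs ▸ hs
    exact Subtype.ext (hp.injective (huniq b (p a.1) (hG a) (he ▸ hspec a)))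
  rw [← ENat.card_coe_set_eq, ← ENat.card_coe_set_eq, ENat.card_congr genericPoints.equiv.symm,
    ENat.card_congr (genericPoints.equiv (α := ↥Z)).symm]
  exact ENat.card_le_card_of_injective hF

theorem count_le (A : Type u) [CommRing A] [IsDomain A] [IsDiscreteValuationRing A]
    [IsAdicComplete (maximalIdeal A) A] [IsAlgClosed (ResidueField A)] {X Y : Scheme.{u}} (f : X ⟶ Y)
    [IsProper f] [Flat f] [LocallyOfFiniteType f] (g : Spec (CommRingCat.of A) ⟶ Y)
    (hred : GeometricallyReduced (f.fiberToSpecResidueField (g (closedPoint A)))) :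
    MoreMor.nGeomIrredComp f (g (genericPoint (Spec (CommRingCat.of A)))) ≤
      MoreMor.nGeomIrredComp f (g (closedPoint A)) := by
  let K := FractionRing A
  let jA : Spec (CommRingCat.of K) ⟶ Spec (CommRingCat.of A) := Spec.map (CommRingCat.ofHom (algebraMap A K))
  have hjA : jA (closedPoint K) = genericPoint (Spec (CommRingCat.of A)) := S4978.pt_generic (K := K) A
  let qK := pullback.snd f (jA ≫ g)
  obtain ⟨V, S', h, hVne, hS'int, hfin, -, -, hcomp⟩ := S5641.result qK
  haveI := hS'int
  haveI := hfin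
  let hι : S' ⟶ Spec (CommRingCat.of K) := h ≫ V.ι
  have hVtop : V = ⊤ := by
    obtain ⟨v, hv⟩ := hVne
    exact eq_top_iff.2 fun x _ => Subsingleton.elim (α := PrimeSpectrum K) v x ▸ hv
  haveI : IsIso V.ι := by subst hVtop; exact inferInstanceAs (IsIso (Scheme.topIso _).hom)
  haveI : IsFinite hι := inferInstanceAs (IsFinite (h ≫ V.ι))
  haveI : IsAffine S' := isAffine_of_isAffineHom hι
  let L := Γ(S', ⊤)
  let φ := Spec.preimage (S'.isoSpec.inv ≫ hι)
  letI : Algebra K L := φ.hom.toAlgebra
  have hφ : Spec.map (CommRingCat.ofHom (algebraMap K L)) = S'.isoSpec.inv ≫ hι := Spec.map_preimage _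
  haveI : FiniteDimensional K L := (IsFinite.SpecMap_iff (f := φ)).1 (by rw [Spec.map_preimage]; infer_instance)
  haveI : IsIntegral (Spec L) := isIntegral_of_isOpenImmersion S'.isoSpec.inv
  haveI : IsDomain L := (affine_isIntegral_iff L).1 inferInstance
  letI : Field L := (isField_of_isIntegral_of_isField' (R := K) (Field.toIsField K)).toField
  -- geometric count bounded by the count over `L`
  let Ω := AlgebraicClosure L
  let σ : Spec (CommRingCat.of Ω) ⟶ S' := Spec.map (CommRingCat.ofHom (algebraMap L Ω)) ≫ S'.isoSpec.inv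
  let t := σ ≫ hι
  have h1 : MoreMor.nGeomIrredComp f (g (genericPoint (Spec (CommRingCat.of A)))) =
      (irreducibleComponents ↥(pullback qK t)).encard := by
    have hb := (GeomSpread4.count_baseChange (IsPullback.of_hasPullback f (jA ≫ g)) (t (closedPoint Ω))).1
    rw [← hjA, ← Scheme.Hom.comp_apply, ← Subsingleton.elim (α := PrimeSpectrum K) (t (closedPoint Ω)) (closedPoint K), ← hb]
    exact (GeomSpread4.count_point qK t).1
  let P := pullback qK hι
  let r : pullback qK t ⟶ P := pullback.lift (pullback.fst _ _) (pullback.snd _ _ ≫ σ)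
    (by rw [Category.assoc]; exact pullback.condition)
  have hrsq : IsPullback r (pullback.snd qK t) (pullback.snd qK hι) σ :=
    IsPullback.of_right (by rw [pullback.lift_fst]; exact IsPullback.of_hasPullback qK t) (pullback.lift_snd _ _ _)
      (IsPullback.of_hasPullback qK hι)
  have h2 : (irreducibleComponents ↥(pullback qK t)).encard ≤ (irreducibleComponents ↥P).encard := by
    refine le_trans (Set.encard_le_encard (t := (fun C => r ⁻¹' C) '' irreducibleComponents ↥P) fun T hT => ?_)
      (Set.encard_image_le _ _)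
    obtain ⟨C, hC, hle, hCmax⟩ := exists_preirreducible (r '' T) (hT.1.isPreirreducible.image _ r.continuous.continuousOn)
    have hCi : IsIrreducible C := ⟨(hT.1.nonempty.image r).mono hle, hC⟩
    have hCm : C ∈ irreducibleComponents ↥P := ⟨hCi, fun S hS h => (hCmax S hS.isPreirreducible h).le⟩
    refine ⟨C, hCm, ?_⟩
    have hTC : T ⊆ r ⁻¹' C := Set.image_subset_iff.1 hle
    refine Set.Subset.antisymm (hT.2 ?_ hTC) hTC
    let I := Scheme.IdealSheafData.vanishingIdeal (⟨C, isClosed_of_mem_irreducibleComponents C hCm⟩ : Closeds ↥P)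
    haveI : IsReduced I.subscheme := inferInstance
    have hrange : Set.range I.subschemeι = C := by
      rw [Scheme.IdealSheafData.range_subschemeι, Scheme.IdealSheafData.coe_support_vanishingIdeal]; rfl
    obtain ⟨-, hgi⟩ := hcomp I.subscheme I.subschemeι (by rw [hrange]; exact hCm)
    haveI := hgi
    have hsq := (IsPullback.of_hasPullback I.subschemeι r).paste_vert hrsq
    haveI : IsIntegral (pullback I.subschemeι r) := GeometricallyIntegral.geometrically_isIntegral _ _ _ hsq
    have hpre := ((irreducibleSpace_def ↥(pullback I.subschemeι r)).1 inferInstance).image (pullback.snd I.subschemeι r)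
      (pullback.snd I.subschemeι r).continuous.continuousOn
    rw [Set.top_eq_univ, Set.image_univ, Scheme.Pullback.range_snd, hrange] at hpre
    exact hpre
  -- the trait over `L`
  letI : Algebra A L := ((algebraMap K L).comp (algebraMap A K)).toAlgebra
  haveI : IsScalarTower A K L := IsScalarTower.of_algebraMap_eq fun _ => rfl
  obtain ⟨hB, hBloc, hBres⟩ := GeomPts5.integralClosure_dvr A L
  haveI := hB
  haveI := hBloc
  haveI := hBres
  haveI : FaithfulSMul A L := (faithfulSMul_iff_algebraMap_injective A L).2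
    ((algebraMap K L).injective.comp (IsFractionRing.injective A K))
  haveI : IsFractionRing (integralClosure A L) L := integralClosure.isFractionRing_of_finite_extension K L
  let cA : Spec (CommRingCat.of (integralClosure A L)) ⟶ Spec (CommRingCat.of A) :=
    Spec.map (CommRingCat.ofHom (algebraMap A (integralClosure A L)))
  let j : Spec L ⟶ Spec (CommRingCat.of (integralClosure A L)) :=
    Spec.map (CommRingCat.ofHom (algebraMap (integralClosure A L) L))
  haveI : IsPreimmersion j := IsPreimmersion.of_isLocalization (nonZeroDivisors (integralClosure A L))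
  let gB := cA ≫ g
  let q := pullback.snd f gB
  have hgB : gB (closedPoint _) = g (closedPoint A) := congrArg g (IsLocalRing.comap_closedPoint (algebraMap A _))
  haveI : GeometricallyReduced (q.fiberToSpecResidueField (closedPoint (integralClosure A L))) := by
    rw [ZConn5.geometricallyReduced_fibre_iff (IsPullback.of_hasPullback f gB), hgB]
    exact hred
  haveI : IsReduced (q.fiber (closedPoint (integralClosure A L))) :=
    GeometricallyReduced.isReduced_of_flat_of_isLocallyNoetherian (q.fiberToSpecResidueField (closedPoint (integralClosure A L)))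
  have hjη : j (closedPoint L) = genericPoint (Spec (CommRingCat.of (integralClosure A L))) := S4978.pt_generic (K := L) _
  let k := ResidueField (integralClosure A L)
  let c₀ : Spec (CommRingCat.of k) ⟶ Spec (CommRingCat.of (integralClosure A L)) :=
    Spec.map (CommRingCat.ofHom (residue (integralClosure A L)))
  haveI : IsClosedImmersion c₀ := IsClosedImmersion.spec_of_surjective _ residue_surjective
  have hc₀ : c₀ (closedPoint k) = closedPoint _ := IsLocalRing.comap_closedPoint (residue (integralClosure A L))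
  have h3 := encard_generic_le q (pullback.fst q j) (pullback.fst q c₀) (Scheme.Hom.isEmbedding _) (Scheme.Hom.isEmbedding _)
    (by
      rw [Scheme.Pullback.range_fst]
      refine congrArg (q ⁻¹' ·) (Set.eq_singleton_iff_unique_mem.2 ⟨⟨_, hjη⟩, ?_⟩)
      rintro _ ⟨t, rfl⟩
      rw [Subsingleton.elim (α := PrimeSpectrum L) t (closedPoint L), hjη])
    (by
      rw [Scheme.Pullback.range_fst]
      refine congrArg (q ⁻¹' ·) (Set.eq_singleton_iff_unique_mem.2 ⟨⟨_, hc₀⟩, ?_⟩)
      rintro _ ⟨t, rfl⟩
      rw [Subsingleton.elim (α := PrimeSpectrum k) t (closedPoint k), hc₀])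
  have hpb : S'.isoSpec.inv ≫ hι ≫ jA ≫ g = j ≫ gB := by
    rw [← Category.assoc, ← hφ]
    simp only [j, gB, cA, jA, ← Category.assoc, ← Spec.map_comp, ← CommRingCat.ofHom_comp]
    rfl
  let e : pullback q j ≅ P :=
    pullbackLeftPullbackSndIso f gB j ≪≫ pullback.congrHom rfl hpb.symm ≪≫
      (pullbackLeftPullbackSndIso f (jA ≫ g) (S'.isoSpec.inv ≫ hι)).symm ≪≫
      asIso (pullback.map qK (S'.isoSpec.inv ≫ hι) qK hι (𝟙 _) S'.isoSpec.inv (𝟙 _) (by simp) (by simp))
  have h4 : (irreducibleComponents ↥(pullback q j)).encard = (irreducibleComponents ↥P).encard :=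
    congrArg Cardinal.toENat (GeomSpread4.mk_eq_of_iso e).1
  have h5 : MoreMor.nGeomIrredComp f (g (closedPoint A)) = (irreducibleComponents ↥(pullback q c₀)).encard := by
    rw [← hgB, ← (GeomSpread4.count_baseChange (IsPullback.of_hasPullback f gB) (closedPoint (integralClosure A L))).1, ← hc₀]
    exact (GeomSpread4.count_point q c₀).1
  rw [h1, h5]
  exact h2.trans (h4 ▸ h3)

theorem eventually_le {Y : Scheme.{u}} [IsLocallyNoetherian Y] (f : X ⟶ Y)
    [IsProper f] [Flat f] [LocallyOfFinitePresentation f]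
    (hred : ∀ y : Y, GeometricallyReduced (f.fiberToSpecResidueField y)) (y : Y) :
    ∀ᶠ z in nhds y, MoreMor.nGeomIrredComp f z ≤ MoreMor.nGeomIrredComp f y := by
  generalize hn : MoreMor.nGeomIrredComp f y = N
  induction N using WithTop.recTopCoe with
  | top => exact Filter.Eventually.of_forall fun z => le_top
  | coe n =>
    have hS : IsLocallyConstructible (⋃ m ∈ Finset.range (n + 1), {z : Y | MoreMor.nGeomIrredComp f z = (m : ℕ∞)})ᶜ := by
      refine AnPtsTop.isLocallyConstructible_compl ?_
      generalize Finset.range (n + 1) = s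
      induction s using Finset.induction with
      | empty => simpa using IsLocallyConstructible.empty
      | insert a s ha ih => rw [Finset.set_biUnion_insert]; exact (S1338.result f a).union ih
    have hmemS : ∀ z : Y, z ∈ (⋃ m ∈ Finset.range (n + 1), {z : Y | MoreMor.nGeomIrredComp f z = (m : ℕ∞)})ᶜ ↔
        ¬ MoreMor.nGeomIrredComp f z ≤ (n : ℕ∞) := fun z => by
      simp only [Set.mem_compl_iff, Set.mem_iUnion, Finset.mem_range, Set.mem_setOf_eq, exists_prop]
      refine not_congr ⟨fun ⟨m, hm, h⟩ => h.le.trans (by exact_mod_cast Nat.lt_succ_iff.1 hm), fun h => ?_⟩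
      obtain ⟨m, hm⟩ := ENat.ne_top_iff_exists.1 (ne_top_of_le_ne_top (ENat.coe_ne_top n) h)
      exact ⟨m, Nat.lt_succ_of_le (by exact_mod_cast hm ▸ h), hm.symm⟩
    have hnc : y ∉ closure _ := ZConn5.notMem_closure hS fun y' hy' hy'S => by
      refine (hmemS y').1 hy'S ?_
      by_cases he : y' = y
      · exact ((congrArg _ he).trans hn).le
      obtain ⟨A, _, _, _, _, _, g, hg, hg'⟩ := ZConn5.exists_complete_trait hy' he
      have h := count_le A f g (hred _)
      rw [hg, hg', hn] at h
      exact h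
    refine Filter.mem_of_superset (isClosed_closure.isOpen_compl.mem_nhds hnc) fun z hz => ?_
    exact not_not.1 fun h => hz (subset_closure ((hmemS z).2 h))

end Groth.Agent.CompUSC4
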